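import Groth.Agent.PtBlowFactLib.Target
import Groth.Agent.CanonRestrLib.Main
import Groth.Agent.RegConLib.Genus
import Groth.Agent.BlowRegLib.BigOpenPic
import Groth.Agent.VBP1Lib.Twist
import Groth.Agent.VertIntLib.PicApps
import Groth.Agent.VertChiLib.Exc
import Groth.Agent.BlowPtLib.Exceptional
import Groth.Agent.S1568
import Groth.Agent.S7929
import Groth.Agent.S7935

/-!
# The canonical sheaf of a point blow-up of an arithmetic surface
-/

set_option autoImplicit false
set_option linter.style.haveILetI false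
set_option linter.unusedSectionVars false
set_option maxHeartbeats 1000000
set_option backward.isDefEq.respectTransparency false
set_option backward.isDefEq.respectTransparency.types false
universe u

open CategoryTheory CategoryTheory.Limits AlgebraicGeometry TopologicalSpace Topology IsLocalRing
open CubeConsLib (cl cl_tensor cl_eq_iff pull pull_cl pull_comp)
open VertChiLib (w eΓ)

noncomputable section

namespace CanonBlowLib

/-- A degree zero invertible module on a projective line over any bigger field is trivial. -/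
theorem line_trivial {F : Type u} [Field F] {Y : Scheme.{u}} [Y.Over (Spec (CommRingCat.of F))]
    [IsProper (Y ↘ Spec (CommRingCat.of F))] {K : Type u} [Field K] (e : CohB1.ProjSpace 1 K ≅ Y)
    {N : Y.Modules} (hN : PicF.IsInvertible N) (h : Curv2.deg F Y N 1 = 0) :
    Nonempty (N ≅ Coh.structureModule Y) := by
  letI : (CohB1.ProjSpace 1 K).Over (Spec (CommRingCat.of F)) := ⟨e.hom ≫ (Y ↘ Spec (CommRingCat.of F))⟩
  haveI : IsProper (CohB1.ProjSpace 1 K ↘ Spec (CommRingCat.of F)) :=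
    inferInstanceAs (IsProper (e.hom ≫ (Y ↘ Spec (CommRingCat.of F))))
  haveI : IsIntegral (CohB1.ProjSpace 1 K) := inferInstance
  haveI : Coh.IsQCoh N := (CurvLib.isCoh_of_isInvertible hN).1
  obtain ⟨h1, -⟩ := VertChiLib.deg_via_iso (F := F) (VertChiLib.dim_line_le K) e rfl N
  have hw : (0 : ℤ) < (w F (CohB1.ProjSpace 1 K) : ℤ) := by
    exact_mod_cast (VertChiLib.w_pos_and_dvd (k := F) (Y := CohB1.ProjSpace 1 K)).1
  have h2 : eΓ (CohB1.ProjSpace 1 K) ((Scheme.Modules.pullback e.hom).obj N) -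
      eΓ (CohB1.ProjSpace 1 K) (Coh.structureModule (CohB1.ProjSpace 1 K)) = 0 := by
    rw [h] at h1
    exact (mul_eq_zero.1 h1.symm).resolve_left hw.ne'
  have hM : PicF.IsInvertible ((Scheme.Modules.pullback e.hom).obj N) := AmpleDevLib.isInvertible_pb e.hom hN
  have hd : Curv2.deg K (CohB1.ProjSpace 1 K) ((Scheme.Modules.pullback e.hom).obj N) 1 = 0 := by
    rw [Curv2.deg, VertChiLib.euler_eq_w_mul (F := K) (VertChiLib.dim_line_le K),
      VertChiLib.euler_eq_w_mul (F := K) (VertChiLib.dim_line_le K), Nat.cast_one, one_mul, ← mul_sub, h2, mul_zero]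
  obtain ⟨t⟩ := VBP1Lib.iso_structure_of_deg_zero K hM hd
  refine cl_eq_iff.1 ?_
  calc cl N = pull (e.inv ≫ e.hom) (cl N) := by
        rw [e.inv_hom_id, pull_cl]; exact cl_eq_iff.2 ⟨((Scheme.Modules.pullbackId Y).app N).symm⟩
    _ = pull e.inv (pull e.hom (cl N)) := (pull_comp _ _ _).symm
    _ = 1 := by rw [pull_cl e.hom, cl_eq_iff.2 ⟨t⟩]; exact map_one _

variable {R : Type u} [CommRing R] [IsDomain R] [IsDiscreteValuationRing R]

theorem iso_off (Y : Over (Spec (CommRingCat.of R))) {X : Scheme.{u}} (f : X ⟶ Y.left) (y : Y.left)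
    (hy : IsClosed ({y} : Set Y.left))
    (hf : BlowUp.IsBlowUp f (Scheme.IdealSheafData.vanishingIdeal ⟨{y}, hy⟩)) :
    IsIso (f ∣_ (⟨{y}ᶜ, hy.isOpen_compl⟩ : Y.left.Opens)) :=
  BlowRegLib.isIso_off_centre hf _ (PtBlowFactLib.comap_eq_bot_off hy)

/-- The blow-up of a closed point of an arithmetic surface is an arithmetic surface. -/
theorem isArithSurface (Y : Over (Spec (CommRingCat.of R))) (hY : ArSurf.IsArithSurface R Y)
    (y : Y.left) (hy : IsClosed ({y} : Set Y.left)) (hys : Y.hom y = closedPoint R) {X : Scheme.{u}} (f : X ⟶ Y.left)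
    (hf : BlowUp.IsBlowUp f (Scheme.IdealSheafData.vanishingIdeal ⟨{y}, hy⟩))
    (E : ArSurf.VertComp R (Over.mk (f ≫ Y.hom)))
    (hE : Set.range (E.ι.base : E.curve.left → X) = f.base ⁻¹' {y}) :
    ArSurf.IsArithSurface R (Over.mk (f ≫ Y.hom)) := by
  obtain ⟨hYi, hYp, hYn⟩ := PtBlowFactLib.surf_instances hY
  haveI := hYi; haveI := hYp; haveI := hYn
  refine PtBlowFactLib.isArithSurface_blowUp_of_dim hY y hy hys f hf ?_
  obtain ⟨-, hEc, hker, -⟩ := BlowRegLib.arith_exc hY hy hf E hE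
  haveI : IsProper f := BlowRegLib.isProper_b hf
  haveI : IsLocallyNoetherian X := LocallyOfFiniteType.isLocallyNoetherian f
  haveI := iso_off Y f y hy hf
  by_contra hd
  obtain ⟨l, hl⟩ := Order.le_krullDim_iff.1 (show ((3 : ℕ) : WithBot ℕ∞) ≤ topologicalKrullDim X by
    have h : ((2 : ℕ) : WithBot ℕ∞) < topologicalKrullDim X := not_le.1 hd
    generalize topologicalKrullDim X = d at h ⊢
    induction d with
    | bot => simp at h
    | coe d =>
      induction d using ENat.recTopCoe with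
      | top => exact WithBot.coe_le_coe.2 le_top
      | coe d =>
        have h1 : ((2 : ℕ) : ℕ∞) < (d : ℕ∞) := WithBot.coe_lt_coe.1 h
        have h2 : 2 < d := by exact_mod_cast h1
        have h3 : ((3 : ℕ) : ℕ∞) ≤ (d : ℕ∞) := by exact_mod_cast (show 3 ≤ d by omega)
        exact WithBot.coe_le_coe.2 h3)
  have hsp : ∀ s t : IrreducibleCloseds X, s < t →
      t.2.genericPoint ⤳ s.2.genericPoint ∧ t.2.genericPoint ≠ s.2.genericPoint := fun s t hst => by
    have hs := s.2.isGenericPoint_genericPoint s.3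
    have ht := t.2.isGenericPoint_genericPoint t.3
    refine ⟨ht.specializes (hst.le hs.mem), fun he => hst.ne (IrreducibleCloseds.ext ?_)⟩
    show s.carrier = t.carrier
    rw [← hs.def, ← ht.def, he]
  obtain ⟨a, b, c, d, hab, nab, hbc, nbc, hcd, ncd⟩ :
      ∃ a b c d : X, a ⤳ b ∧ a ≠ b ∧ b ⤳ c ∧ b ≠ c ∧ c ⤳ d ∧ c ≠ d :=
    ⟨_, _, _, _, (hsp _ _ (l.step ⟨2, by omega⟩)).1, (hsp _ _ (l.step ⟨2, by omega⟩)).2,
      (hsp _ _ (l.step ⟨1, by omega⟩)).1, (hsp _ _ (l.step ⟨1, by omega⟩)).2,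
      (hsp _ _ (l.step ⟨0, by omega⟩)).1, (hsp _ _ (l.step ⟨0, by omega⟩)).2⟩
  have hcl : IsClosed (f ⁻¹' {y}) := hy.preimage f.continuous
  have hinj : ∀ p q : X, f p ≠ y → f q ≠ y → f p = f q → p = q := fun p q hp hq h => by
    have h' := (f ∣_ (⟨{y}ᶜ, hy.isOpen_compl⟩ : Y.left.Opens)).homeomorph.injective
      (a₁ := ⟨p, hp⟩) (a₂ := ⟨q, hq⟩) (Subtype.ext (by
        rw [Scheme.Hom.homeomorph_apply, Scheme.Hom.homeomorph_apply, morphismRestrict_base_coe,
          morphismRestrict_base_coe]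
        exact h))
    exact congrArg Subtype.val h'
  by_cases hc : f c = y
  · -- `c` is the generic point of the exceptional curve
    have hcE : c ∈ Set.range (E.ι.base : E.curve.left → X) := hE.ge hc
    have hd' : f d = y := (hy.closure_eq ▸ specializes_iff_mem_closure.1 (hc ▸ hcd.map f.continuous) : f d ∈ ({y} : Set Y.left))
    have hEmax : ∀ v, f v = y → v ⤳ c → v = c := fun v hv hvc => by
      obtain ⟨v', rfl⟩ : v ∈ Set.range (E.ι.base : E.curve.left → X) := hE.ge hv
      obtain ⟨c', rfl⟩ := hcE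
      obtain ⟨d', rfl⟩ : d ∈ Set.range (E.ι.base : E.curve.left → X) := hE.ge hd'
      have h1 : v' ⤳ c' := E.ι.isEmbedding.specializes_iff.1 hvc
      have h2 : c' ⤳ d' := E.ι.isEmbedding.specializes_iff.1 hcd
      by_contra hne
      have hch : FibDimLib.IsSpecChain (n := 2) ![v', c', d'] := by
        have n1 : v' ≠ c' := fun h => hne (congrArg _ h)
        have n2 : c' ≠ d' := fun h => ncd (congrArg _ h)
        have n3 : v' ≠ d' := fun h => n2 ((h2.antisymm (h ▸ h1)).eq)
        constructor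
        · intro i j
          fin_cases i <;> fin_cases j <;> simp [n1, n1.symm, n2, n2.symm, n3, n3.symm]
        · intro i j hij
          fin_cases i <;> fin_cases j <;>
            first
              | exact absurd hij (by decide)
              | simp [specializes_rfl, h1, h2, h1.trans h2]
      have h := hch.le_topologicalKrullDim
      rw [E.dim_eq] at h
      exact absurd h (by decide)
    have hsupp : (E.ι.ker.support : Set (Over.mk (f ≫ Y.hom)).left) = f ⁻¹' {y} := by
      rw [Scheme.Hom.support_ker, E.ι.isClosedEmbedding.isClosed_range.closure_eq]; exact hE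
    have h1 := Groth.Agent.S1568.result X E.ι.ker hEc c (hsupp.ge hc) fun v hv hvc => hEmax v (hsupp.le hv) hvc
    obtain ⟨pa, hpa⟩ := EquidimLib.exists_stalkPt (hab.trans hbc)
    obtain ⟨pb, hpb⟩ := EquidimLib.exists_stalkPt hbc
    have hle : pa.asIdeal ≤ pb.asIdeal := EquidimLib.le_of_stalkPt (hpa ▸ hpb ▸ hab)
    have hlt : pa.asIdeal < pb.asIdeal := lt_of_le_of_ne hle fun h => nab (by
      rw [← hpa, ← hpb, show pa = pb from PrimeSpectrum.ext h])
    have hlt' : pb.asIdeal < maximalIdeal (X.presheaf.stalk c) :=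
      lt_of_le_of_ne (le_maximalIdeal pb.isPrime.ne_top) fun h => nbc (by
        rw [← hpb, show pb = closedPoint (X.presheaf.stalk c) from PrimeSpectrum.ext h]
        exact Scheme.fromSpecStalk_closedPoint)
    have h2 : pa.asIdeal.height < pb.asIdeal.height := Ideal.height_strict_mono_of_isPrime hlt
    have h3 : pb.asIdeal.height < (maximalIdeal (X.presheaf.stalk c)).height := Ideal.height_strict_mono_of_isPrime hlt'
    rw [← IsLocalRing.maximalIdeal_height_eq_ringKrullDim] at h1
    have h4 : (maximalIdeal (X.presheaf.stalk c)).height = 1 := by exact_mod_cast h1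
    have : (1 : ℕ∞) ≤ pb.asIdeal.height := Order.one_le_iff_pos.2 (lt_of_le_of_lt zero_le h2)
    exact absurd (h4 ▸ h3) (not_lt.2 this)
  · have hb : f b ≠ y := fun h => hc (hy.closure_eq ▸ specializes_iff_mem_closure.1 (h ▸ hbc.map f.continuous) : f c ∈ ({y} : Set Y.left))
    have ha : f a ≠ y := fun h => hb (hy.closure_eq ▸ specializes_iff_mem_closure.1 (h ▸ hab.map f.continuous) : f b ∈ ({y} : Set Y.left))
    refine RelMinSmLib.not_four hY.2.2.1.le (hab.map f.continuous) (hbc.map f.continuous) (hcd.map f.continuous)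
      (fun h => nab (hinj _ _ ha hb h)) (fun h => nbc (hinj _ _ hb hc h)) fun h => ?_
    have hd' : f d ≠ y := fun h' => hc (h.trans h')
    exact ncd (hinj _ _ hc hd' h)

set_option maxHeartbeats 2000000 in
/-- **`ω_X ≅ f^*ω_Y ⊗ O(E)` for the blow-up of a closed point.** -/
theorem canonical_blowUp (Y : Over (Spec (CommRingCat.of R))) (hY : ArSurf.IsArithSurface R Y)
    (y : Y.left) (hy : IsClosed ({y} : Set Y.left)) (hys : Y.hom y = closedPoint R) {X : Scheme.{u}} (f : X ⟶ Y.left)
    (hf : BlowUp.IsBlowUp f (Scheme.IdealSheafData.vanishingIdeal ⟨{y}, hy⟩))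
    (E : ArSurf.VertComp R (Over.mk (f ≫ Y.hom)))
    (hE : Set.range (E.ι.base : E.curve.left → X) = f.base ⁻¹' {y})
    (L : X.Modules) (hL : ClSub.IsInverseOf L (ClSub.idealMod E.ι.ker))
    (ωY : Y.left.Modules) (hωY : Canon.IsCanonical Y.hom ωY)
    (ωX : X.Modules) (hωX : Canon.IsCanonical (f ≫ Y.hom) ωX) :
    Nonempty (ωX ≅ CohB1.tensorMod ((Scheme.Modules.pullback f).obj ωY) L) := by
  have hX := isArithSurface Y hY y hy hys f hf E hE
  haveI := hX.2.2.2.1
  let IE : X.Modules := ClSub.idealMod E.ι.ker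
  obtain ⟨hYi, hYp, hYn⟩ := PtBlowFactLib.surf_instances hY
  haveI := hYi; haveI := hYp; haveI := hYn
  obtain ⟨hXi, hXp, hXn⟩ := PtBlowFactLib.surf_instances hX
  haveI : IsIntegral X := hXi
  haveI := hXp
  haveI : IsNoetherian X := hXn
  haveI : IsProper f := BlowRegLib.isProper_b hf
  obtain ⟨-, hEc, hker, e, -, -⟩ := BlowRegLib.arith_exc hY hy hf E hE
  haveI := VertIntLib.isProper_curve E
  -- numbers
  obtain ⟨hexc, -, -, hself⟩ := BlowRegLib.arith_exc_numbers hY hy hf E hE hys L hL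
  obtain ⟨h1, -⟩ := (VertChiLib.isExcCurve_iff (X := Over.mk (f ≫ Y.hom)) E hEc hL).1 hexc
  have hK := RegConLib.inter_add_inter_cst hX E L hL ωX hωX
  rw [hself, VertChiLib.cst, h1, Nat.cast_zero, sub_zero] at hK
  have hωXi : PicF.IsInvertible ωX := RegConLib.isInvertible_of_isCanonical hωX
  have hωYi : PicF.IsInvertible ωY := RegConLib.isInvertible_of_isCanonical hωY
  have hIi : PicF.IsInvertible IE := IntMultLib.isInvertible_idealMod _ hEc
  let D := MiscFlat6.dual ωY
  have hD : cl ωY * cl D = 1 := by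
    rw [← cl_tensor]; exact CubeConsLib.cl_eq_one_iff.2 (MiscFlat6.nonempty_dualIso hωYi)
  have hDi : PicF.IsInvertible D := MiscFlat6.dual_isInvertible hωYi
  have hLI : cl L * cl IE = 1 := by
    rw [← cl_tensor]; exact CubeConsLib.cl_eq_one_iff.2 hL
  -- intersection with the exceptional curve
  let fY : Over.mk (f ≫ Y.hom) ⟶ Y := Over.homMk f rfl
  have hdense : DenseRange fY.left.base := by
    have hs : Function.Surjective f := fun w => by
      by_cases hw : w = y
      · obtain ⟨c⟩ := (inferInstance : Nonempty E.curve.left)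
        exact ⟨E.ι c, (hE.le ⟨c, rfl⟩).trans hw.symm⟩
      · haveI := iso_off Y f y hy hf
        obtain ⟨x, hx⟩ := (f ∣_ (⟨{y}ᶜ, hy.isOpen_compl⟩ : Y.left.Opens)).homeomorph.surjective ⟨w, hw⟩
        exact ⟨x.1, (morphismRestrict_base_coe f _ x).symm.trans (congrArg Subtype.val hx)⟩
    exact hs.denseRange
  have hrange : Set.range ((E.ι ≫ fY.left).base : E.curve.left → Y.left) = {y} := by
    refine Set.Subset.antisymm ?_ ?_
    · rintro _ ⟨c, rfl⟩
      exact hE.le ⟨c, rfl⟩
    · rintro _ rfl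
      obtain ⟨c⟩ := (inferInstance : Nonempty E.curve.left)
      exact ⟨c, hE.le ⟨c, rfl⟩⟩
  have hpull0 : ArSurf.inter R (Over.mk (f ≫ Y.hom)) ((Scheme.Modules.pullback f).obj D) E = 0 :=
    Groth.Agent.S7935.result R (Over.mk (f ≫ Y.hom)) Y hX hY fY hdense E y hrange D hDi
  have hfD : PicF.IsInvertible ((Scheme.Modules.pullback f).obj D) := AmpleDevLib.isInvertible_pb f hDi
  let F := CohB1.tensorMod (CohB1.tensorMod ωX ((Scheme.Modules.pullback f).obj D)) IE
  have hFi : PicF.IsInvertible F := HilbPolyLib.isInvertible_tensor (HilbPolyLib.isInvertible_tensor hωXi hfD) hIi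
  have hI : ArSurf.inter R (Over.mk (f ≫ Y.hom)) IE E =
      -ArSurf.inter R (Over.mk (f ≫ Y.hom)) L E := by
    have hLi : PicF.IsInvertible L := RegConLib.isInvertible_of_cl_mul hIi (MiscFlat6.isInvertible_structureModule X) hLI
    have h := VertIntLib.inter_tensor (X := Over.mk (f ≫ Y.hom)) hLi hIi E
    rw [VertIntLib.inter_congr (X := Over.mk (f ≫ Y.hom)) (M := CohB1.tensorMod L IE)
      (N := Coh.structureModule X) (by rw [cl_tensor]; exact hLI) E] at h
    have h0 := h.symm.trans (VertIntLib.inter_structure (X := Over.mk (f ≫ Y.hom)) E)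
    linarith
  have hF0 : ArSurf.inter R (Over.mk (f ≫ Y.hom)) F E = 0 := by
    rw [VertIntLib.inter_tensor (X := Over.mk (f ≫ Y.hom)) (HilbPolyLib.isInvertible_tensor hωXi hfD) hIi E,
      VertIntLib.inter_tensor (X := Over.mk (f ≫ Y.hom)) hωXi hfD E, hpull0, hI, hself]
    linarith
  rw [VertIntLib.inter_eq_deg] at hF0
  obtain ⟨t⟩ := line_trivial (F := ResidueField R) e (AmpleDevLib.isInvertible_pb E.ι hFi) hF0
  obtain ⟨M, hM, ⟨eM⟩⟩ := (Groth.Agent.S7929.result R Y hY y hy hys f hf E hE).2 F hFi ⟨t⟩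
  -- `M` is trivial away from `y`
  let W : Y.left.Opens := ⟨{y}ᶜ, hy.isOpen_compl⟩
  haveI := iso_off Y f y hy hf
  have hMW : Nonempty (M.restrict W.ι ≅ Coh.structureModule (W : Scheme.{u})) := by
    let j : (f ⁻¹ᵁ W : Scheme.{u}) ⟶ X := (f ⁻¹ᵁ W).ι
    let s : (W : Scheme.{u}) ⟶ X := inv (f ∣_ W) ≫ j
    have hs : s ≫ f = W.ι := by
      rw [Category.assoc, ← morphismRestrict_ι, IsIso.inv_hom_id_assoc]
    have h1 := CanonRestrLib.isCanonical_comp s hωX
    rw [← Category.assoc, hs] at h1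
    obtain ⟨a⟩ := CanonRestrLib.nonempty_iso h1 (CanonRestrLib.isCanonical_comp W.ι hωY)
    have hE0 : pull s (cl IE) = 1 := by
      rw [pull_cl]
      refine CubeConsLib.cl_eq_one_iff.2 (BlowPtLib.nonempty_pb_ideal_trivial s E.ι.ker hIi fun v hv => ?_)
      have h3 : s v ∈ (E.ι.ker.support : Set (Over.mk (f ≫ Y.hom)).left) := hv
      rw [Scheme.Hom.support_ker, E.ι.isClosedEmbedding.isClosed_range.closure_eq] at h3
      have h4 : f (s v) = y := hE.le h3
      rw [← Scheme.Hom.comp_apply, hs] at h4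
      exact v.2 h4
    refine CubeConsLib.cl_eq_one_iff.1 ?_
    rw [show cl (M.restrict W.ι) = pull W.ι (cl M) from
      cl_eq_iff.2 ⟨(Scheme.Modules.restrictFunctorIsoPullback W.ι).app M⟩]
    calc pull W.ι (cl M) = pull s (pull f (cl M)) := by rw [pull_comp, hs]
      _ = pull s (cl ωX * pull f (cl D) * cl IE) := by
        rw [pull_cl f M, cl_eq_iff.2 ⟨eM⟩]; rfl
      _ = pull W.ι (cl ωY) * pull W.ι (cl D) := by
        rw [map_mul, map_mul, hE0, mul_one, pull_comp, hs, pull_cl, cl_eq_iff.2 ⟨a⟩]; rfl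
      _ = 1 := by rw [← map_mul, hD, map_one]
  have hne : y ≠ genericPoint Y.left := fun h => by
    haveI := hY.2.2.2.1
    exact VertIntLib.eta_ne_closedPoint (by rw [← VertIntLib.genericPoint_over (X := Y), ← h, hys])
  have hdimy : (2 : WithBot ℕ∞) ≤ ringKrullDim (Y.left.presheaf.stalk y) := by
    rw [(BlowRegLib.arith_exc hY hy hf E hE).1]; rfl
  have hTn : ∀ v : Y.left, IsDomain (Y.left.presheaf.stalk v) ∧ IsIntegrallyClosed (Y.left.presheaf.stalk v) := fun v =>
    haveI := hY.1 v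
    ⟨CommAlgDim.isDomain_of_isRegularLocalRing _, Groth.Agent.S9829.result _⟩
  obtain ⟨eM1⟩ := (BlowRegLib.BigOpenPic.sections_and_pic Y.left hTn W (fun v hv => by
    have hv' : v = y := not_not.1 hv
    rw [hv']; exact hdimy) M hM).2 hMW
  have key : cl ωX * pull f (cl D) * cl IE = 1 := by
    have : pull f (cl M) = 1 := by rw [CubeConsLib.cl_eq_one_iff.2 ⟨eM1⟩, map_one]
    rw [pull_cl f M, cl_eq_iff.2 ⟨eM⟩] at this
    exact this
  refine cl_eq_iff.1 ?_
  calc cl ωX = cl ωX * (pull f (cl D * cl ωY) * (cl L * cl IE)) := by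
        rw [mul_comm (cl D), hD, map_one, hLI, one_mul, mul_one]
    _ = (pull f (cl ωY) * cl L) * (cl ωX * pull f (cl D) * cl IE) := by
        rw [map_mul]; ac_rfl
    _ = cl (CohB1.tensorMod ((Scheme.Modules.pullback f).obj ωY) L) := by
        rw [key, mul_one]; rfl

end CanonBlowLib
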